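import Cfsg.Agent.H636.Gow.Defs_m3
import Cfsg.Agent.S1578
import Cfsg.Agent.S1579
import Cfsg.Agent.S1580
import Cfsg.Agent.Leech.Basic
import Cfsg.Agent.Prune
set_option linter.all false
prune_inst 0x7f00000000000000000000000000000000000000000000000000000000000000000000000000000000000000000000000000000000000000000000000000000000000000000000000000000000000000003fffffffffffffffffffffffffffbeffbdffffffff
open scoped Cfsg.Agent.FastGrp

/-!
# A nontrivial rational-valued irreducible character of Co3 (action on 552 minimal vectors)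
-/

set_option autoImplicit false

namespace Cfsg.Agent.H707.RowCo3

open Cfsg Cfsg.Agent.H707.OddLift Cfsg.Agent.H707.Rank MulAction Cfsg.Agent.Leech.Basic

local notation "V" => Spor.leechV

theorem normV : sqNorm (V : GolayPt → ℤ) = 48 := by
  decide +kernel

/-- The 552 minimal vectors. -/
def X552 : Set ↥leechLattice := {v : ↥leechLattice | sqNorm (v : GolayPt → ℤ) = 32 ∧
  sqNorm ((V - v) : GolayPt → ℤ) = 32}

abbrev X : Type := ↥X552

instance : MulAction ↥Spor.Co3 X where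
  smul g x := ⟨(g : Equiv.Perm leechLattice) x.1, by
    obtain ⟨g, h1, h2⟩ := g
    obtain ⟨x, hx1, hx2⟩ := x
    have e : g (V - x) = V - g x := by
      have h3 : g V = V := h2
      have h4 := h1.1 (V - x) x
      rw [sub_add_cancel, h3] at h4
      exact eq_sub_of_add_eq h4.symm
    refine ⟨(h1.2 x).trans hx1, ?_⟩
    have h5 := h1.2 (V - x)
    rw [e] at h5
    exact h5.trans hx2⟩
  one_smul x := rfl
  mul_smul g h x := rfl

theorem smul_coe (g : ↥Spor.Co3) (x : X) : ((g • x : X) : ↥leechLattice) = (g : Equiv.Perm leechLattice) x := rfl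

/-- elements of Co3 from elements of Co0 fixing `V`. -/
def lift (g : ↥Co0) (h : g • V = V) : ↥Spor.Co3 := ⟨g.1, g.2, h⟩

theorem card_X : Nat.card X = 552 := by
  rw [Nat.card_coe_set_eq]
  exact S1578.result V normV

instance : Finite X := Nat.finite_of_card_ne_zero (by rw [card_X]; norm_num)

instance : IsPretransitive ↥Spor.Co3 X where
  exists_smul_eq x y := by
    obtain ⟨g, h1, h2⟩ := S1579.result V x.1 y.1 normV x.2 y.2
    exact ⟨lift g h1, Subtype.ext h2⟩

/-- The other summand. -/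
def opp (x : X) : X := ⟨V - x.1, by
  refine ⟨x.2.2, ?_⟩
  have : (((V : ↥leechLattice) : GolayPt → ℤ) - ((V - x.1 : ↥leechLattice) : GolayPt → ℤ)) = x.1 := by
    rw [AddSubgroup.coe_sub, sub_sub_cancel]
  rw [this]
  exact x.2.1⟩

theorem dot_opp (x y : X) : dotInt (x.1 : GolayPt → ℤ) ((opp y).1 : GolayPt → ℤ) =
    24 - dotInt (x.1 : GolayPt → ℤ) (y.1 : GolayPt → ℤ) := by
  have h1 : dotInt (x.1 : GolayPt → ℤ) (V : GolayPt → ℤ) = 24 := by
    have := x.2.2
    rw [sqNorm_sub, normV, x.2.1, dotInt_comm] at this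
    linarith
  show dotInt (x.1 : GolayPt → ℤ) ((V - y.1 : ↥leechLattice) : GolayPt → ℤ) = _
  rw [AddSubgroup.coe_sub, dotInt_sub_right, h1]

theorem opp_opp (x : X) : opp (opp x) = x := Subtype.ext (sub_sub_cancel _ _)

theorem eq_or_le (x y : X) : x = y ∨ dotInt (x.1 : GolayPt → ℤ) (y.1 : GolayPt → ℤ) ≤ 16 := by
  by_cases h : (x.1 : GolayPt → ℤ) - (y.1 : GolayPt → ℤ) = 0
  · left
    exact Subtype.ext (Subtype.ext (sub_eq_zero.1 h))
  · right
    have h1 := le_sqNorm (AddSubgroup.sub_mem _ x.1.2 y.1.2) h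
    rw [sqNorm_sub, x.2.1, y.2.1] at h1
    linarith

theorem ip (x y : X) : y = x ∨ y = opp x ∨ dotInt (x.1 : GolayPt → ℤ) (y.1 : GolayPt → ℤ) = 16 ∨
    dotInt (x.1 : GolayPt → ℤ) ((opp y).1 : GolayPt → ℤ) = 16 := by
  rcases eq_or_le x y with h | h
  · left; exact h.symm
  rcases eq_or_le x (opp y) with h' | h'
  · right; left
    rw [h', opp_opp]
  · right; right
    have h3 := dot_opp x y
    obtain ⟨k, hk⟩ := eight_dvd_dotInt x.1.2 y.1.2
    omega

/-- The point stabiliser. -/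
theorem trans16 (x y z : X) (hy : dotInt (x.1 : GolayPt → ℤ) (y.1 : GolayPt → ℤ) = 16)
    (hz : dotInt (x.1 : GolayPt → ℤ) (z.1 : GolayPt → ℤ) = 16) :
    ∃ g : stabilizer (↥Spor.Co3) x, g • y = z := by
  obtain ⟨g, h1, h2, h3⟩ := (S1580.result V x.1 normV x.2).2 y.1 ⟨y.2.1, y.2.2, hy⟩ z.1 ⟨z.2.1, z.2.2, hz⟩
  exact ⟨⟨lift g h1, Subtype.ext h2⟩, Subtype.ext h3⟩

theorem smul_opp (g : ↥Spor.Co3) (x : X) : g • opp x = opp (g • x) := by
  apply Subtype.ext
  obtain ⟨g, h1, h2⟩ := g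
  have h3 : g V = V := h2
  have h4 := h1.1 (V - x.1) x.1
  rw [sub_add_cancel, h3] at h4
  exact eq_sub_of_add_eq h4.symm

theorem co3 [Finite ↥Spor.Co3] : HasRat ↥Spor.Co3 := by
  have hne : Nonempty X := by
    rw [← Finite.card_pos_iff, card_X]
    norm_num
  obtain ⟨x⟩ := hne
  obtain ⟨y, hy⟩ : ∃ y : X, dotInt (x.1 : GolayPt → ℤ) (y.1 : GolayPt → ℤ) = 16 := by
    have h := (S1580.result V x.1 normV x.2).1
    have h' := Set.nonempty_of_ncard_ne_zero (by rw [h]; norm_num)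
    obtain ⟨y, h1, h2, h3⟩ := h'
    exact ⟨⟨y, h1, h2⟩, h3⟩
  refine hasRat_of_cover X x (stabilizer _ x) (fun g => mem_stabilizer_iff) (r := 4) (by norm_num)
    ![x, opp x, y, opp y] ?_ (by rw [card_X]; norm_num) ?_
  · intro z
    rcases ip x z with h | h | h | h
    · exact ⟨0, by rw [h]; exact mem_orbit_self _⟩
    · exact ⟨1, by rw [h]; exact mem_orbit_self _⟩
    · obtain ⟨g, hg⟩ := trans16 x y z hy h
      exact ⟨2, g, hg⟩
    · obtain ⟨g, hg⟩ := trans16 x y (opp z) hy h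
      refine ⟨3, g, ?_⟩
      have h5 : (g : ↥Spor.Co3) • opp y = opp ((g : ↥Spor.Co3) • y) := smul_opp _ _
      have h6 : (g : ↥Spor.Co3) • y = opp z := hg
      show (g : ↥Spor.Co3) • opp y = z
      rw [h5, h6, opp_opp]
  · intro j h1 h2
    rw [card_X]
    interval_cases j <;> decide

theorem row {K : Type*} [Group K] [Finite K] (h : Spor.IsoCo3 K) : HasRat K := by
  obtain ⟨e⟩ := h
  have : Finite ↥Spor.Co3 := Finite.of_equiv _ e.toEquiv
  exact HasRat.of_equiv e co3

end Cfsg.Agent.H707.RowCo3
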