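import Cfsg.Agent.H636.Gow.Defs_m3
import Cfsg.Agent.SporadicB.RuOrder
import Cfsg.Agent.RuLat.Main
import Cfsg.Agent.Prune
set_option linter.all false
prune_inst 0x7f00000000000000000000000000000000000000000000000000000000000000000000000000000000000000000000000000000000000000000000000000000000000000000000000000000000000000003fffffffffffffffffffffffffffbeffbdffffffff
open scoped Cfsg.Agent.FastGrp

/-!
# Nontrivial rational-valued irreducible character of the Rudvalis group (rank 3 on 4060 points)
-/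

set_option autoImplicit false
set_option maxRecDepth 100000
set_option exponentiation.threshold 5000

namespace Cfsg.Agent.H707.RowRu

open Cfsg Cfsg.Agent.H707.OddLift Cfsg.Agent.H707.Rank MulAction
open Cfsg.Agent.SporadicB Cfsg.Agent.SporadicB.RuData Cfsg.Agent.SporadicB.RuOrder Cfsg.Agent.Lib.BitNet

def p : Fin 4060 := ⟨3, by norm_num⟩

theorem orbN : Nat.ble 1755 (popc 12 (iter [net0, net1, net2, net3, net4] 8 (Nat.pow 2 3))) = true := by
  decide +kernel

theorem row0 : ((row 0).testBit 29 = false) ∧ ((row 0).testBit 3 = true) := by decide +kernel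

theorem card_orb2 : 2304 ≤ Nat.card (orbit H1 b2) := orbit_card_ge (K := 12) (k := 8) gens1 orb2

theorem card_orbN : 1755 ≤ Nat.card (orbit H1 p) := orbit_card_ge (K := 12) (k := 8) gens1 orbN

theorem row_of_mem {i j : Fin 4060} (h : j ∈ orbit H1 i) : (row 0).testBit j = (row 0).testBit i := by
  obtain ⟨σ, rfl⟩ := h
  have h1 : (σ : Equiv.Perm (Fin 4060)) ∈ H1 := σ.2
  have h2 := (mem_Aut.1 h1.1) b1 i
  have h3 : (σ : Equiv.Perm (Fin 4060)) b1 = b1 := h1.2
  rw [h3] at h2
  exact h2

theorem cover (y : Fin 4060) : y = b1 ∨ y ∈ orbit H1 b2 ∨ y ∈ orbit H1 p := by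
  classical
  by_contra hcon
  push Not at hcon
  obtain ⟨hy1, hy2, hy3⟩ := hcon
  have hb1 : ∀ z : Fin 4060, b1 ∈ orbit H1 z → z = b1 := by
    rintro z ⟨σ, hσ⟩
    have h3 : (σ : Equiv.Perm (Fin 4060)) b1 = b1 := σ.2.2
    exact (σ : Equiv.Perm (Fin 4060)).injective (hσ.trans h3.symm)
  have hd : Disjoint (orbit H1 b2) (orbit H1 p) := by
    rw [Set.disjoint_left]
    intro z hz hz'
    have h1 := (row_of_mem hz).symm.trans (row_of_mem hz')
    have h2 := row0.1
    have h3 := row0.2
    change (row 0).testBit 29 = (row 0).testBit 3 at h1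
    rw [h2, h3] at h1
    exact Bool.false_ne_true h1
  have h1 : (insert b1 (insert y (orbit H1 b2 ∪ orbit H1 p))).ncard ≤ 4060 := by
    have := Set.ncard_le_card (insert b1 (insert y (orbit H1 b2 ∪ orbit H1 p)))
    simpa using this
  rw [Set.ncard_insert_of_notMem, Set.ncard_insert_of_notMem, Set.ncard_union_eq hd] at h1
  · have h4 := card_orb2
    have h5 := card_orbN
    rw [Nat.card_coe_set_eq] at h4 h5
    omega
  · rw [Set.mem_union, not_or]
    exact ⟨hy2, hy3⟩
  · rw [Set.mem_insert_iff, Set.mem_union, not_or, not_or]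
    refine ⟨Ne.symm hy1, fun h => ?_, fun h => ?_⟩
    · have := hb1 _ h
      exact absurd this (by decide)
    · have := hb1 _ h
      exact absurd this (by decide)

theorem ru {K : Type*} [Group K] (h : Spor.IsoRu K) : HasRat K := by
  obtain ⟨e⟩ := h
  apply HasRat.of_equiv (e.trans RuLat.Main.equiv)
  have := isPretransitive
  let S : Subgroup H := stabilizer H b1
  refine hasRat_of_cover (G := H) (Fin 4060) b1 S (fun g => mem_stabilizer_iff) (r := 3) (by norm_num)
    ![b1, b2, p] ?_ (by simp) ?_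
  · intro y
    have key : ∀ z, y ∈ orbit H1 z → y ∈ orbit S z := by
      rintro z ⟨σ, rfl⟩
      exact ⟨⟨⟨σ, σ.2.1⟩, σ.2.2⟩, rfl⟩
    rcases cover y with h | h | h
    · exact ⟨0, h ▸ mem_orbit_self _⟩
    · exact ⟨1, key _ h⟩
    · exact ⟨2, key _ h⟩
  · intro j h1 h2
    rw [Nat.card_fin]
    interval_cases j <;> norm_num

end Cfsg.Agent.H707.RowRu
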