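import Cfsg.Agent.H710.R4.Sph_m3
import Cfsg.Agent.SporadicB.RuTits
import Cfsg.Agent.Prune
set_option linter.all false
prune_inst 0x7f00000000000000000000000000000000000000000000000000000000000000000000000000000000000000000000000000000000000000000000000000000000000000000000000000000000000000003fffffffffffffffffffffffffffbeffbdffffffff
open scoped Cfsg.Agent.FastGrp

-- part: H707/Graph
section
/-!
# Rational irreducible characters from a simple eigenvalue of an invariant relation

`G` acts on `X` and preserves the relation `E`; `cls` classifies the orbits of the stabiliser of `x₀`; `B i j` is the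
number of points of class `j` related to the representative `r i`. If `t` is a simple eigenvalue of `B` whose eigenvector
is not constant on the orbit of `x₀`, then `G` has a nontrivial irreducible character with rational values.
-/

set_option autoImplicit false

namespace Cfsg.Agent.H707.Graph

open Cfsg Cfsg.Agent.H707.OddLift Cfsg.Agent.H707.Eigen

universe u

variable {G : Type u} [Group G] [Finite G] {X : Type} [Fintype X] [MulAction G X]

theorem hasRat_of_graph (E : X → X → Bool) (hE : ∀ (g : G) x y, E (g • x) (g • y) = E x y) (x₀ : X) {n : ℕ}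
    (cls : X → Fin n) (r : Fin n → X) (hcls : ∀ g : G, g • x₀ = x₀ → ∀ x, cls (g • x) = cls x)
    (htr : ∀ x, ∃ g : G, g • x₀ = x₀ ∧ g • r (cls x) = x) (B : Fin n → Fin n → ℕ)
    (hB : ∀ i j, (Finset.univ.filter fun y => E (r i) y = true ∧ cls y = j).card = B i j)
    (a : Fin n → ℚ) (t : ℚ) (hBa : ∀ i, ∑ j, (B i j : ℚ) * a j = t * a i)
    (huniq : ∀ a' : Fin n → ℚ, (∀ i, ∑ j, (B i j : ℚ) * a' j = t * a' i) → ∀ i, a' i = a' (cls x₀) * a i)
    (ha : a (cls x₀) = 1) (hne : ∃ g : G, a (cls (g • x₀)) ≠ 1) : HasRat G := by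
  classical
  -- the sum over the neighbours of a representative
  have hsum : ∀ (a' : Fin n → ℚ) i, ∑ y, (if E (r i) y = true then a' (cls y) else 0) = ∑ j, (B i j : ℚ) * a' j := by
    intro a' i
    rw [← Finset.sum_filter, ← Finset.sum_fiberwise_of_maps_to (t := Finset.univ) (g := cls)
      (fun _ _ => Finset.mem_univ _)]
    refine Finset.sum_congr rfl fun j _ => ?_
    rw [Finset.filter_filter]
    have h1 : ∀ y ∈ Finset.univ.filter (fun y => E (r i) y = true ∧ cls y = j), a' (cls y) = a' j := by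
      intro y hy
      rw [(Finset.mem_filter.1 hy).2.2]
    rw [Finset.sum_congr rfl h1, Finset.sum_const, nsmul_eq_mul, hB]
  let V : Submodule ℚ (X → ℚ) :=
    { carrier := {φ | ∀ x, ∑ y, (if E x y = true then φ y else 0) = t * φ x}
      add_mem' := by
        intro φ ψ h1 h2 x
        have h3 : ∀ y, (if E x y = true then (φ + ψ) y else 0) =
            (if E x y = true then φ y else 0) + if E x y = true then ψ y else 0 := by
          intro y
          by_cases h : E x y = true
          · rw [if_pos h, if_pos h, if_pos h, Pi.add_apply]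
          · rw [if_neg h, if_neg h, if_neg h, add_zero]
        rw [Finset.sum_congr rfl fun y _ => h3 y, Finset.sum_add_distrib, h1 x, h2 x, Pi.add_apply]
        ring
      zero_mem' := by
        intro x
        simp
      smul_mem' := by
        intro c φ h1 x
        have h3 : ∀ y, (if E x y = true then (c • φ) y else 0) = c * if E x y = true then φ y else 0 := by
          intro y
          by_cases h : E x y = true
          · rw [if_pos h, if_pos h, Pi.smul_apply, smul_eq_mul]
          · rw [if_neg h, if_neg h, mul_zero]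
        rw [Finset.sum_congr rfl fun y _ => h3 y, ← Finset.mul_sum, h1 x, Pi.smul_apply, smul_eq_mul]
        ring }
  have hV : ∀ φ : X → ℚ, φ ∈ V ↔ ∀ x, ∑ y, (if E x y = true then φ y else 0) = t * φ x := fun _ => Iff.rfl
  have htrans : ∀ (g : G) (φ : X → ℚ) x, ∑ y, (if E x y = true then φ (g⁻¹ • y) else 0) =
      ∑ y, (if E (g⁻¹ • x) y = true then φ y else 0) := by
    intro g φ x
    rw [← Equiv.sum_comp (MulAction.toPerm g) fun y => (if E x y = true then φ (g⁻¹ • y) else 0)]
    refine Finset.sum_congr rfl fun y _ => ?_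
    rw [MulAction.toPerm_apply, inv_smul_smul]
    have h1 : E x (g • y) = E (g⁻¹ • x) y := by
      rw [← hE g (g⁻¹ • x) y, smul_inv_smul]
    rw [h1]
  have hVG : ∀ (g : G) (φ : X → ℚ), φ ∈ V → (fun x => φ (g⁻¹ • x)) ∈ V := by
    intro g φ h1
    rw [hV] at h1 ⊢
    intro x
    rw [htrans, h1]
  let ρ : Representation ℚ G V :=
    { toFun := fun g =>
        { toFun := fun φ => ⟨fun x => (φ : X → ℚ) (g⁻¹ • x), hVG g φ φ.2⟩
          map_add' := fun _ _ => rfl
          map_smul' := fun _ _ => rfl }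
      map_one' := by
        refine LinearMap.ext fun φ => Subtype.ext (funext fun x => ?_)
        show (φ : X → ℚ) ((1 : G)⁻¹ • x) = (φ : X → ℚ) x
        rw [inv_one, one_smul]
      map_mul' := fun g h => by
        refine LinearMap.ext fun φ => Subtype.ext (funext fun x => ?_)
        show (φ : X → ℚ) ((g * h)⁻¹ • x) = (φ : X → ℚ) (h⁻¹ • g⁻¹ • x)
        rw [mul_inv_rev, mul_smul] }
  have hρ : ∀ g (φ : V) x, ((ρ g φ : V) : X → ℚ) x = (φ : X → ℚ) (g⁻¹ • x) := fun _ _ _ => rfl
  have he : (fun x => a (cls x)) ∈ V := by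
    rw [hV]
    intro x
    obtain ⟨g, hg, hx⟩ := htr x
    have h1 := htrans g⁻¹ (fun y => a (cls y)) (r (cls x))
    rw [inv_inv, hx] at h1
    rw [← h1]
    have h2 : ∀ y, (if E (r (cls x)) y = true then a (cls (g • y)) else 0) =
        if E (r (cls x)) y = true then a (cls y) else 0 := by
      intro y
      rw [hcls g hg]
    rw [Finset.sum_congr rfl fun y _ => h2 y, hsum, hBa]
  let e₀ : V := ⟨fun x => a (cls x), he⟩
  refine hasRat_of_eigen ρ (MulAction.stabilizer G x₀) (fun _ => 1) e₀ ?_ ?_ ?_ ?_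
  · intro h
    have h1 : a (cls x₀) = 0 := congrArg (fun φ : V => (φ : X → ℚ) x₀) h
    rw [ha] at h1
    exact one_ne_zero h1
  · intro q hq
    rw [one_smul]
    refine Subtype.ext (funext fun x => ?_)
    rw [hρ]
    show a (cls (q⁻¹ • x)) = a (cls x)
    rw [hcls _ (MulAction.mem_stabilizer_iff.1 ((MulAction.stabilizer G x₀).inv_mem hq))]
  · intro φ hφ
    have hl : ∀ g : G, g • x₀ = x₀ → ∀ x, (φ : X → ℚ) (g • x) = (φ : X → ℚ) x := by
      intro g hg x
      have h1 := hφ g⁻¹ ((MulAction.stabilizer G x₀).inv_mem hg)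
      rw [one_smul] at h1
      have h2 := congrArg (fun ψ : V => (ψ : X → ℚ) x) h1
      simp only [hρ, inv_inv] at h2
      exact h2
    let a' : Fin n → ℚ := fun i => (φ : X → ℚ) (r i)
    have haφ : ∀ x, (φ : X → ℚ) x = a' (cls x) := by
      intro x
      obtain ⟨g, hg, hx⟩ := htr x
      show (φ : X → ℚ) x = (φ : X → ℚ) (r (cls x))
      rw [← hl g hg (r (cls x)), hx]
    have h2 : ∀ i, ∑ j, (B i j : ℚ) * a' j = t * a' i := by
      intro i
      rw [← hsum a' i]
      have h3 := (hV φ).1 φ.2 (r i)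
      rw [Finset.sum_congr rfl fun y _ => by rw [haφ y]] at h3
      exact h3
    refine ⟨a' (cls x₀), Subtype.ext (funext fun x => ?_)⟩
    show (φ : X → ℚ) x = a' (cls x₀) * a (cls x)
    rw [haφ, huniq a' h2]
  · obtain ⟨g, hg⟩ := hne
    refine ⟨g⁻¹, fun h => hg ?_⟩
    have h1 := congrArg (fun ψ : V => (ψ : X → ℚ) x₀) h
    simp only [hρ, inv_inv] at h1
    have h2 : a (cls (g • x₀)) = a (cls x₀) := h1
    rw [h2, ha]

end Cfsg.Agent.H707.Graph
end

-- part: H707/RowTitsModel
section
/-!
# A rational irreducible character of the Tits group: the concrete group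

`T` acts on the 1755 neighbours of a point of the Rudvalis graph; the relation "not adjacent" has valency 1024 and the
simple eigenvalue 64.
-/

set_option autoImplicit false
set_option maxRecDepth 100000
set_option exponentiation.threshold 5000

namespace Cfsg.Agent.H707.RowTitsModel

open Cfsg Cfsg.Agent.H707.OddLift
open Cfsg.Agent.SporadicB.RuData Cfsg.Agent.SporadicB.RuOrder Cfsg.Agent.SporadicB.RuTitsData
open Cfsg.Agent.SporadicB.RuTits
open Cfsg.Agent.Lib.BitNet Cfsg.Agent.Lib.BitNetSimple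
open MulAction

/-! ### the point stabiliser -/

/-- the subgroup of `T` generated by two elements fixing `p1` -/
def K : Subgroup (Equiv.Perm (Fin 4060)) := Subgroup.closure {perm kmem0.1, perm kmem1.1}

theorem K_le : K ≤ T1 := by
  rw [K, Subgroup.closure_le]
  rintro g (rfl | rfl)
  · exact kmem0.2
  · exact kmem1.2

theorem kk0 : Mem K k0 := ⟨kmem0.1, Subgroup.subset_closure (Or.inl rfl)⟩
theorem kk1 : Mem K k1 := ⟨kmem1.1, Subgroup.subset_closure (Or.inr rfl)⟩

theorem gensK : ∀ g ∈ [k0, k1], Mem K g := by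
  intro g hg
  simp only [List.mem_cons, List.not_mem_nil, or_false] at hg
  rcases hg with rfl | rfl
  exacts [kk0, kk1]

def K2 : Subgroup (Equiv.Perm (Fin 4060)) := K ⊓ stabilizer (Equiv.Perm (Fin 4060)) p2

theorem ll0 : Mem K2 l0 := Mem.stab (kk0.append (kk1.append kk1)) lfix0
theorem ll1 : Mem K2 l1 :=
  Mem.stab (kk1.append (kk0.append (kk1.append (kk1.append (kk0.append (kk1.reverse.append
    (kk0.append kk0))))))) lfix1

theorem gensK2 : ∀ g ∈ [l0, l1], Mem K2 g := by
  intro g hg
  simp only [List.mem_cons, List.not_mem_nil, or_false] at hg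
  rcases hg with rfl | rfl
  exacts [ll0, ll1]

theorem lowK : 1024 * Nat.card K2 ≤ Nat.card K := lower_step' (L := 12) (k := 9) gensK orbT1
theorem lowK2 : 10 * Nat.card (K2 ⊓ stabilizer (Equiv.Perm (Fin 4060)) p3 : Subgroup (Equiv.Perm (Fin 4060))) ≤
    Nat.card K2 := lower_step' (L := 12) (k := 3) gensK2 orbT2

theorem K_eq : K = T1 := by
  refine Subgroup.eq_of_le_of_card_ge K_le ?_
  have := lowK
  have := lowK2
  have : 0 < Nat.card (K2 ⊓ stabilizer (Equiv.Perm (Fin 4060)) p3 : Subgroup (Equiv.Perm (Fin 4060))) := Nat.card_pos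
  rw [card_T1]
  omega

/-! ### the classes -/

/-- the masks of the classes -/
def cm : Fin 5 → ℕ := ![Nat.pow 2 1968, c10, c80, c640, c1024]

theorem cm_inv0 : ∀ i, Nat.beq (appMF k0 (cm i)) (cm i) = true := by decide +kernel
theorem cm_inv1 : ∀ i, Nat.beq (appMF k1 (cm i)) (cm i) = true := by decide +kernel

theorem cm_disj : ∀ i j, i = j ∨ Nat.beq (Nat.land (cm i) (cm j)) 0 = true := by decide +kernel

theorem inv_of {l : List (ℕ × ℕ)} (ok : OkNet 4060 l) {m : ℕ} (h : Nat.beq (appMF l m) m = true) (x : Fin 4060) :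
    m.testBit (perm ok x) = m.testBit x := by
  rw [appMF_eq] at h
  have h := Nat.eq_of_beq_eq_true h
  have h1 := testBit_appM ok.valid m x
  rw [h] at h1
  rw [perm_apply]
  exact h1

theorem K_inv (i : Fin 5) {g : Equiv.Perm (Fin 4060)} (hg : g ∈ K) : ∀ x, (cm i).testBit (g x) = (cm i).testBit x := by
  induction hg using Subgroup.closure_induction with
  | mem g hg =>
    rcases hg with rfl | rfl
    · exact inv_of _ (cm_inv0 i)
    · exact inv_of _ (cm_inv1 i)
  | one => intro x; rfl
  | mul a b _ _ ha hb => intro x; rw [Equiv.Perm.mul_apply, ha, hb]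
  | inv a _ ha =>
    intro x
    have h1 : a (a⁻¹ x) = x := a.apply_symm_apply x
    rw [← ha (a⁻¹ x), h1]

theorem inv (i : Fin 5) {g : Equiv.Perm (Fin 4060)} (hg : g ∈ T) (h1 : g p1 = p1) (x : Fin 4060) :
    (cm i).testBit (g x) = (cm i).testBit x := by
  refine K_inv i ?_ x
  rw [K_eq]
  exact ⟨hg, h1⟩

/-- the points -/
abbrev X : Type := {x : Fin 4060 // (row 0).testBit x = true}

theorem T_row {g : Equiv.Perm (Fin 4060)} (hg : g ∈ T) (x : Fin 4060) : (row 0).testBit (g x) = (row 0).testBit x :=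
  H1_row (T_le hg) x

instance : MulAction T X where
  smul g x := ⟨g.1 x.1, by rw [T_row g.2]; exact x.2⟩
  one_smul _ := rfl
  mul_smul _ _ _ := rfl

theorem smul_val (g : T) (x : X) : (g • x).1 = g.1 x.1 := rfl

/-- the relation -/
def E (x y : X) : Bool := !(row x.1).testBit y.1 && !decide (x.1 = y.1)

theorem E_smul (g : T) (x y : X) : E (g • x) (g • y) = E x y := by
  unfold E
  rw [smul_val, smul_val]
  have h1 : (row (g.1 x.1)).testBit (g.1 y.1) = (row x.1).testBit y.1 := (T_le g.2).1 x.1 y.1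
  rw [h1]
  congr 2
  simp

/-- representatives -/
def ry : Fin 5 → ℕ := ![1968, 189, 13, 6, 4]

theorem ry_lt : ∀ i, ry i < 4060 := by decide

theorem ry_row : ∀ i, tb (row 0) (ry i) = true := by decide +kernel

def r (i : Fin 5) : X := ⟨⟨ry i, ry_lt i⟩, by have := ry_row i; rwa [tb_eq] at this⟩

theorem orb_i (i : Fin 5) : ∃ k, Nat.beq (iterF [k0, k1] k (Nat.pow 2 (ry i))) (cm i) = true := by
  fin_cases i
  · exact ⟨0, by decide +kernel⟩
  · exact ⟨4, orb10⟩
  · exact ⟨5, orb80⟩
  · exact ⟨8, orb640⟩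
  · exact ⟨9, orb1024⟩

theorem exists_class' (x : ℕ) (h1 : (row 0).testBit x = true) : ∃ i, (cm i).testBit x = true := by
  have h := Nat.eq_of_beq_eq_true cover
  rw [← h] at h1
  simp only [List.foldl_cons, List.foldl_nil] at h1
  have h2 : ∀ a b : ℕ, Nat.lor a b = a ||| b := fun _ _ => rfl
  rw [h2, h2, h2, h2, Nat.testBit_or, Nat.testBit_or, Nat.testBit_or, Nat.testBit_or] at h1
  simp only [Bool.or_eq_true] at h1
  rcases h1 with (((h | h) | h) | h) | h
  · exact ⟨0, h⟩
  · exact ⟨1, h⟩
  · exact ⟨2, h⟩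
  · exact ⟨3, h⟩
  · exact ⟨4, h⟩

theorem exists_class (x : X) : ∃ i, (cm i).testBit x.1 = true := exists_class' _ x.2

theorem class_unique {i j : Fin 5} {x : ℕ} (hi : (cm i).testBit x = true) (hj : (cm j).testBit x = true) : i = j := by
  rcases cm_disj i j with h | h
  · exact h
  · exfalso
    have h := Nat.eq_of_beq_eq_true h
    have h2 : Nat.land (cm i) (cm j) = cm i &&& cm j := rfl
    rw [h2] at h
    have h1 : (cm i &&& cm j).testBit x = true := by rw [Nat.testBit_and, hi, hj]; rfl
    rw [h, Nat.zero_testBit] at h1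
    exact Bool.noConfusion h1

/-- the class of a point -/
noncomputable def cls (x : X) : Fin 5 := (exists_class x).choose

theorem cls_spec (x : X) : (cm (cls x)).testBit x.1 = true := (exists_class x).choose_spec

theorem cls_iff (x : X) (i : Fin 5) : cls x = i ↔ (cm i).testBit x.1 = true :=
  ⟨fun h => h ▸ cls_spec x, fun h => class_unique (cls_spec x) h⟩

/-- the collapsed matrix -/
def B : Fin 5 → Fin 5 → ℕ := ![![0, 0, 0, 0, 1024], ![0, 0, 0, 512, 512], ![0, 0, 64, 320, 640], ![0, 8, 40, 400, 576],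
  ![1, 5, 50, 360, 608]]

/-- the mask of the neighbours of a point in a class -/
def nbm (i j : Fin 5) : ℕ :=
  Nat.land (cm j) (Nat.xor (row 0) (Nat.land (row 0) (Nat.lor (row (ry i)) (Nat.pow 2 (ry i)))))

theorem nbm_card : ∀ i j, Nat.beq (popc 12 (nbm i j)) (B i j) = true := by decide +kernel

theorem nbm_lt : ∀ i j, Nat.blt (nbm i j) (Nat.pow 2 4060) = true := by decide +kernel

theorem bool_aux (b1 b2 b3 : Bool) (m n : ℕ) : (b1 && (b2 ^^ (b2 && (b3 || decide (m = n))))) = true ↔
    (b1 = true ∧ b2 = true ∧ b3 = false ∧ n ≠ m) := by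
  by_cases h : m = n
  · subst h
    cases b1 <;> cases b2 <;> cases b3 <;> simp
  · have h' : n ≠ m := fun e => h e.symm
    cases b1 <;> cases b2 <;> cases b3 <;> simp [h, h']

theorem testBit_nbm (i j : Fin 5) (y : Fin 4060) : (nbm i j).testBit y = true ↔
    ((cm j).testBit y = true ∧ (row 0).testBit y = true ∧ (row (ry i)).testBit y = false ∧ (y : ℕ) ≠ ry i) := by
  have e : nbm i j = cm j &&& (row 0 ^^^ (row 0 &&& (row (ry i) ||| 2 ^ ry i))) := rfl
  rw [e, Nat.testBit_and, Nat.testBit_xor, Nat.testBit_and, Nat.testBit_or, Nat.testBit_two_pow]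
  exact bool_aux _ _ _ _ _

theorem count (i j : Fin 5) : (Finset.univ.filter fun y : X => E (r i) y = true ∧ cls y = j).card = B i j := by
  have h1 : (Finset.univ.filter fun y : X => E (r i) y = true ∧ cls y = j).card = (pts 4060 (nbm i j)).card := by
    rw [← Finset.card_map (Function.Embedding.subtype _)]
    congr 1
    ext y
    rw [Finset.mem_map, mem_pts, testBit_nbm]
    constructor
    · rintro ⟨z, hz, rfl⟩
      obtain ⟨-, hz1, hz2⟩ := Finset.mem_filter.1 hz
      rw [cls_iff] at hz2
      refine ⟨hz2, z.2, ?_⟩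
      unfold E at hz1
      rw [Bool.and_eq_true, Bool.not_eq_true', Bool.not_eq_true', decide_eq_false_iff_not] at hz1
      refine ⟨hz1.1, fun h => hz1.2 ?_⟩
      exact Fin.ext h.symm
    · rintro ⟨h1, h2, h3, h4⟩
      refine ⟨⟨y, h2⟩, Finset.mem_filter.2 ⟨Finset.mem_univ _, ?_, ?_⟩, rfl⟩
      · unfold E
        rw [Bool.and_eq_true, Bool.not_eq_true', Bool.not_eq_true', decide_eq_false_iff_not]
        refine ⟨h3, fun h => h4 ?_⟩
        have h5 : (r i).1 = y := h
        rw [← h5]
        rfl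
      · exact (cls_iff _ _).2 h1
  rw [h1]
  have h2 := Nat.eq_of_beq_eq_true (nbm_card i j)
  apply le_antisymm
  · rw [← h2]
    exact card_pts_le (by norm_num) _
  · rw [← h2]
    refine card_pts_eq fun k hk => ?_
    by_contra hlt
    have h3 := nbm_lt i j
    rw [Nat.blt_eq] at h3
    have h4 : nbm i j < 2 ^ k := lt_of_lt_of_le h3 (Nat.pow_le_pow_right (by norm_num) (not_lt.1 hlt))
    rw [Nat.testBit_lt_two_pow h4] at hk
    exact Bool.noConfusion hk

/-- the eigenvector -/
def a : Fin 5 → ℚ := ![1, -1 / 2, 1 / 4, -1 / 8, 1 / 16]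

theorem a_zero : a 0 = 1 := by decide +kernel

theorem a_one : a 1 ≠ 1 := by decide +kernel

theorem hBa : ∀ i, ∑ j, (B i j : ℚ) * a j = 64 * a i := by decide +kernel

theorem huniq (a' : Fin 5 → ℚ) (h : ∀ i, ∑ j, (B i j : ℚ) * a' j = 64 * a' i) (i : Fin 5) : a' i = a' 0 * a i := by
  have h0 := h 0
  have h1 := h 1
  have h2 := h 2
  have h3 := h 3
  simp only [B, Fin.sum_univ_five, Matrix.cons_val] at h0 h1 h2 h3
  norm_num at h0 h1 h2 h3
  fin_cases i
  · show a' 0 = a' 0 * 1
    rw [mul_one]
  · show a' 1 = a' 0 * (-1 / 2)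
    linarith
  · show a' 2 = a' 0 * (1 / 4)
    linarith
  · show a' 3 = a' 0 * (-1 / 8)
    linarith
  · show a' 4 = a' 0 * (1 / 16)
    linarith

theorem ry_cm : ∀ i, tb (cm i) (ry i) = true := by decide +kernel

theorem cls_r (i : Fin 5) : cls (r i) = i := by
  rw [cls_iff, ← tb_eq]
  exact ry_cm i

theorem orbit_eq : (orbit T p1) = {x : Fin 4060 | (row 0).testBit x = true} := by
  apply Set.eq_of_subset_of_ncard_le
  · intro x hx
    exact orbit_sub x hx
  · rw [← Nat.card_coe_set_eq (orbit T p1), card_orbitT]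
    have e : {x : Fin 4060 | (row 0).testBit x = true} =
        ((pts 4060 (row 0) : Finset (Fin 4060)) : Set (Fin 4060)) := by
      ext x
      rw [Finset.mem_coe, mem_pts]
      rfl
    rw [e, Set.ncard_coe_finset]
    refine (card_pts_le (K := 12) (by norm_num) _).trans ?_
    have : Nat.ble (popc 12 (row 0)) 1755 = true := by decide +kernel
    exact Nat.le_of_ble_eq_true this
  · exact Set.toFinite _

theorem exists_g : ∃ g : T, g • r 0 = r 1 := by
  have h2 : (r 1).1 ∈ orbit T p1 := by
    rw [orbit_eq]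
    exact (r 1).2
  obtain ⟨g, hg⟩ := h2
  exact ⟨g, Subtype.ext hg⟩

theorem hasRat_T : HasRat T := by
  refine Graph.hasRat_of_graph E E_smul (r 0) cls r ?_ ?_ B count a 64 hBa ?_ ?_ ?_
  · intro g hg x
    rw [cls_iff, smul_val]
    have h1 : g.1 p1 = p1 := congrArg Subtype.val hg
    rw [inv _ g.2 h1]
    exact cls_spec x
  · intro x
    obtain ⟨k, hk⟩ := orb_i (cls x)
    obtain ⟨g, hg, hgx⟩ := exists_of_iterF (b := (r (cls x)).1) gensT1 hk (cls_spec x)
    exact ⟨⟨g, hg.1⟩, Subtype.ext hg.2, Subtype.ext hgx⟩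
  · intro a' h i
    rw [cls_r]
    exact huniq a' h i
  · rw [cls_r]
    exact a_zero
  · obtain ⟨g, hg⟩ := exists_g
    refine ⟨g, ?_⟩
    rw [hg, cls_r]
    exact a_one

end Cfsg.Agent.H707.RowTitsModel
end

private theorem dce_1583ede2fc2d : _root_.True := by
  try have : _root_.True := by simp only [_root_.Cfsg.Agent.H707.RowTitsModel.B.eq_1]
  try have : _root_.True := by simp only [_root_.Cfsg.Agent.H707.RowTitsModel.K.eq_1]
  exact _root_.True.intro
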