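import Cfsg.Agent.H636.Gow.Defs_m3
import Cfsg.Agent.S0397
import Cfsg.Agent.S0399
import Cfsg.Agent.S0400
import Cfsg.Agent.S0402
import Cfsg.Agent.S1573
import Cfsg.Agent.S1574
import Cfsg.Agent.S1575
import Cfsg.Agent.S1576
import Cfsg.Agent.Leech.Basic
import Cfsg.Agent.SporadicA.Co0Basic
import Cfsg.Agent.Prune
set_option linter.all false
prune_inst 0x7f00000000000000000000000000000000000000000000000000000000000000000000000000000000000000000000000000000000000000000000000000000000000000000000000000000000000000003fffffffffffffffffffffffffffbeffbdffffffff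
open scoped Cfsg.Agent.FastGrp

/-!
# A nontrivial rational-valued irreducible character of Co1 (action on the 98280 pairs of minimal vectors)
-/

set_option autoImplicit false

namespace Cfsg.Agent.H707.RowCo1

open Cfsg Cfsg.Agent.H707.OddLift Cfsg.Agent.H707.Rank MulAction Cfsg.Agent.Leech.Basic
open Cfsg.Agent.SporadicA.Co0Basic (negCo0 negCo0_mem_center negCo0_apply eq_one_or_neg_of_mem_center)

theorem smul_neg' (g : Co0) (v : leechLattice) : g • (-v) = -(g • v) := by
  have h0 : g • (0 : leechLattice) = 0 := by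
    have := g.2.1 0 0
    rw [add_zero] at this
    exact left_eq_add.1 this
  have h1 : g • (v + -v) = g • v + g • (-v) := g.2.1 v (-v)
  rw [add_neg_cancel, h0] at h1
  exact (neg_eq_of_add_eq_zero_right h1.symm).symm

theorem norm_smul (g : Co0) (v : leechLattice) :
    sqNorm ((g • v : leechLattice) : GolayPt → ℤ) = sqNorm (v : GolayPt → ℤ) := g.2.2 v

theorem neg_smul' (v : leechLattice) : negCo0 • v = -v := negCo0_apply v

/-- The minimal vector. -/
abbrev u : leechLattice := Spor.leechU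

theorem norm_u : sqNorm (u : GolayPt → ℤ) = 32 := by
  decide +kernel

/-- The stabiliser of the pair `{u, -u}`. -/
def H₀ : Subgroup Co0 where
  carrier := {g | g • u = u ∨ g • u = -u}
  one_mem' := Or.inl (one_smul _ _)
  mul_mem' := by
    rintro a b (ha | ha) (hb | hb)
    · left; rw [mul_smul, hb, ha]
    · right; rw [mul_smul, hb, smul_neg', ha]
    · right; rw [mul_smul, hb, ha]
    · left; rw [mul_smul, hb, smul_neg', ha, neg_neg]
  inv_mem' := by
    rintro a (ha | ha)
    · left; rw [inv_smul_eq_iff, ha]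
    · right; rw [inv_smul_eq_iff, smul_neg', ha, neg_neg]

theorem neg_mem_H₀ : negCo0 ∈ H₀ := Or.inr (neg_smul' _)

theorem u_ne_neg : (-u : leechLattice) ≠ u := by
  intro h
  have h1 := congrArg (fun x : leechLattice => (x : GolayPt → ℤ) none) h
  change -((u : GolayPt → ℤ) none) = (u : GolayPt → ℤ) none at h1
  have h3 : (u : GolayPt → ℤ) none = 4 := by
    show Spor.vecU none = 4
    decide +kernel
  rw [h3] at h1
  norm_num at h1

theorem stab_le : stabilizer Co0 u ≤ H₀ := fun _ hg => Or.inl hg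

theorem relIndex_stab : (stabilizer Co0 u).relIndex H₀ = 2 := by
  rw [Subgroup.relIndex, Subgroup.index_eq_two_iff]
  refine ⟨⟨negCo0, neg_mem_H₀⟩, fun b => ?_⟩
  obtain ⟨b, hb⟩ := b
  rw [Subgroup.mem_subgroupOf, Subgroup.mem_subgroupOf]
  simp only [Subgroup.coe_mul, mem_stabilizer_iff, mul_smul, neg_smul', smul_neg']
  rcases hb with h | h
  · right
    refine ⟨h, ?_⟩
    rw [h]
    exact u_ne_neg
  · left
    refine ⟨by rw [h, neg_neg], ?_⟩
    rw [h]
    exact u_ne_neg

theorem index_stab : (stabilizer Co0 u).index = 196560 := by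
  have h1 := (stabilizer Co0 u).card_mul_index
  have h2 : Nat.card (stabilizer Co0 u) = 42305421312000 := (S0402.result u norm_u).2
  rw [h2, S0397.result] at h1
  omega

theorem index_H₀ : H₀.index = 98280 := by
  have h1 := Subgroup.relIndex_mul_index stab_le
  rw [relIndex_stab, index_stab] at h1
  omega

noncomputable abbrev pr : Co0 →* Spor.Co1 := QuotientGroup.mk' (Subgroup.center Co0)

theorem pr_neg : pr negCo0 = 1 := (QuotientGroup.eq_one_iff _).2 negCo0_mem_center

theorem ker_le : pr.ker ≤ H₀ := by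
  intro z hz
  rw [QuotientGroup.ker_mk'] at hz
  rcases eq_one_or_neg_of_mem_center hz with h | h
  · rw [h]; exact one_mem _
  · rw [h]; exact neg_mem_H₀

noncomputable abbrev H : Subgroup Spor.Co1 := H₀.map pr

theorem index_H : H.index = 98280 := by
  rw [Subgroup.index_map_eq _ (QuotientGroup.mk'_surjective _) ker_le, index_H₀]

/-- the coset of `g` -/
noncomputable def cs (g : Co0) : Spor.Co1 ⧸ H := ((pr g : Spor.Co1) : Spor.Co1 ⧸ H)

theorem cs_eq {g g' h : Co0} (hh : h ∈ H₀) (e : h • g • u = g' • u ∨ h • g • u = -(g' • u)) :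
    cs g' ∈ orbit H (cs g) := by
  refine ⟨⟨pr h, Subgroup.mem_map_of_mem _ hh⟩, ?_⟩
  show ((pr h * pr g : Spor.Co1) : Spor.Co1 ⧸ H) = ((pr g' : Spor.Co1) : Spor.Co1 ⧸ H)
  rw [QuotientGroup.eq]
  refine ⟨(h * g)⁻¹ * g', ?_, by rw [map_mul, map_inv, map_mul]⟩
  rw [← mul_smul] at e
  rcases e with e | e
  · left
    rw [mul_smul, inv_smul_eq_iff, e]
  · right
    rw [mul_smul, inv_smul_eq_iff, smul_neg', e, neg_neg]

theorem cs_neg (g : Co0) : cs (g * negCo0) = cs g := by
  unfold cs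
  rw [map_mul, pr_neg, mul_one]

theorem exists_of_dot {k : ℤ} (h : {w : GolayPt → ℤ | w ∈ leechLattice ∧ sqNorm w = 32 ∧
    dotInt (u : GolayPt → ℤ) w = k}.ncard ≠ 0) :
    ∃ g : Co0, dotInt (u : GolayPt → ℤ) ((g • u : leechLattice) : GolayPt → ℤ) = k := by
  obtain ⟨w, h1, h2, h3⟩ := Set.nonempty_of_ncard_ne_zero h
  obtain ⟨g, hg⟩ := S0400.result u ⟨w, h1⟩ norm_u h2
  exact ⟨g, by rw [hg]; exact h3⟩

theorem ip (w : leechLattice) (hw : sqNorm (w : GolayPt → ℤ) = 32)
    (h : dotInt (u : GolayPt → ℤ) (w : GolayPt → ℤ) ≤ 0) :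
    w = -u ∨ dotInt (u : GolayPt → ℤ) (w : GolayPt → ℤ) = -16 ∨
    dotInt (u : GolayPt → ℤ) (w : GolayPt → ℤ) = -8 ∨ dotInt (u : GolayPt → ℤ) (w : GolayPt → ℤ) = 0 := by
  by_cases h0 : (w : GolayPt → ℤ) + (u : GolayPt → ℤ) = 0
  · left
    apply Subtype.ext
    exact eq_neg_of_add_eq_zero_left h0
  · right
    have h1 := le_sqNorm (AddSubgroup.add_mem _ w.2 u.2) h0
    rw [sqNorm_add, hw, norm_u, dotInt_comm] at h1
    obtain ⟨k, hk⟩ := eight_dvd_dotInt u.2 w.2
    omega

theorem co1 : HasRat Spor.Co1 := by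
  have hcard : Nat.card Spor.Co1 = 4157776806543360000 := S0399.result.2
  have hfin : Finite Spor.Co1 := Nat.finite_of_card_ne_zero (by rw [hcard]; norm_num)
  have hcen := S1573.result u u.2 norm_u
  obtain ⟨g₁, hg₁⟩ := exists_of_dot (k := -16) (by rw [hcen.1]; norm_num)
  obtain ⟨g₂, hg₂⟩ := exists_of_dot (k := -8) (by rw [hcen.2.1]; norm_num)
  obtain ⟨g₃, hg₃⟩ := exists_of_dot (k := 0) (by rw [hcen.2.2]; norm_num)
  have hX : Nat.card (Spor.Co1 ⧸ H) = 98280 := index_H
  refine hasRat_of_cover (Spor.Co1 ⧸ H) ((1 : Spor.Co1) : Spor.Co1 ⧸ H) H (mem_iff_smul H) (r := 4) (by norm_num)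
    ![cs 1, cs g₁, cs g₂, cs g₃] ?_ (by rw [hX]; norm_num) ?_
  · intro y
    have hy : ∃ g : Co0, cs g = y ∧ dotInt (u : GolayPt → ℤ) ((g • u : leechLattice) : GolayPt → ℤ) ≤ 0 := by
      induction y using QuotientGroup.induction_on with | _ y =>
      obtain ⟨g, rfl⟩ := QuotientGroup.mk'_surjective (Subgroup.center Co0) y
      by_cases h : dotInt (u : GolayPt → ℤ) ((g • u : leechLattice) : GolayPt → ℤ) ≤ 0
      · exact ⟨g, rfl, h⟩
      · refine ⟨g * negCo0, cs_neg g, ?_⟩
        rw [mul_smul, neg_smul', smul_neg']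
        show dotInt (u : GolayPt → ℤ) (-((g • u : leechLattice) : GolayPt → ℤ)) ≤ 0
        rw [dotInt_neg_right]
        linarith
    obtain ⟨g, rfl, hg⟩ := hy
    have hn : ∀ g : Co0, sqNorm ((g • u : leechLattice) : GolayPt → ℤ) = 32 := fun g => (norm_smul g u).trans norm_u
    rcases ip _ (hn g) hg with h | h | h | h
    · refine ⟨0, cs_eq (one_mem _) (Or.inr ?_)⟩
      rw [one_smul, one_smul, h, neg_neg]
    · obtain ⟨a, h1, h2⟩ := S1574.result u (g₁ • u) (g • u) norm_u (hn _) (hn _) hg₁ h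
      exact ⟨1, cs_eq (stab_le h1) (Or.inl h2)⟩
    · obtain ⟨a, h1, h2⟩ := S1575.result u (g₂ • u) (g • u) norm_u (hn _) (hn _) hg₂ h
      exact ⟨2, cs_eq (stab_le h1) (Or.inl h2)⟩
    · obtain ⟨a, h1, h2⟩ := S1576.result u (g₃ • u) (g • u) norm_u (hn _) (hn _) hg₃ h
      exact ⟨3, cs_eq (stab_le h1) h2⟩
  · intro j h1 h2
    rw [hX]
    interval_cases j <;> decide

theorem row {K : Type*} [Group K] [Finite K] (h : Spor.IsoCo1 K) : HasRat K := by
  obtain ⟨e⟩ := h
  have : Finite Spor.Co1 := Finite.of_equiv _ e.toEquiv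
  exact HasRat.of_equiv e co1

end Cfsg.Agent.H707.RowCo1
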